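import Mathlib
import Cfsg.Agent.Lib.H28.WordChain
import Cfsg.Agent.Lib.H28.M23M22Simple

/-!
# The standard three-point stabilizer `M₂₁` of `M₂₄`: order and generators
-/

set_option autoImplicit false
set_option linter.style.haveILetI false

open scoped Pointwise
open Cfsg

namespace Cfsg.Agent.Lib.H5.M21

open Cfsg.Agent.Lib.H28

/-- the stabilizer of the points `∞, 0, 1` -/
noncomputable abbrev A21 : Subgroup (Equiv.Perm GolayPt) := fixSub M24 [1, 0, 23]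

theorem card_A21_le : Nat.card A21 ≤ 20160 := by
  have h4 := card_fixSub_le M24 (levelFix 3) 2 _ (level_le 3 (by norm_num))
  have h5 := card_fixSub_le M24 (levelFix 4) 3 _ (level_le 4 (by norm_num))
  have h6 := card_fixSub_le M24 (levelFix 5) 4 _ (level_le 5 (by norm_num))
  have h7 := card_fixSub_le M24 (levelFix 6) 5 _ (level_le 6 (by norm_num))
  have h8 : Nat.card (fixSub M24 (levelFix 7)) = 1 := by
    rw [fixSub_M24_top]; exact Subgroup.card_bot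
  rw [levelSet_card 3 (by norm_num)] at h4
  rw [levelSet_card 4 (by norm_num)] at h5
  rw [levelSet_card 5 (by norm_num)] at h6
  rw [levelSet_card 6 (by norm_num)] at h7
  change Nat.card (fixSub M24 [1, 0, 23]) ≤ 21 * Nat.card (fixSub M24 [2, 1, 0, 23]) at h4
  change Nat.card (fixSub M24 [2, 1, 0, 23]) ≤ 20 * Nat.card (fixSub M24 [3, 2, 1, 0, 23]) at h5
  change Nat.card (fixSub M24 [3, 2, 1, 0, 23]) ≤ 16 * Nat.card (fixSub M24 [4, 3, 2, 1, 0, 23]) at h6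
  change Nat.card (fixSub M24 [4, 3, 2, 1, 0, 23]) ≤ 3 * Nat.card (fixSub M24 [5, 4, 3, 2, 1, 0, 23]) at h7
  change Nat.card (fixSub M24 [5, 4, 3, 2, 1, 0, 23]) = 1 at h8
  show Nat.card (fixSub M24 [1, 0, 23]) ≤ 20160
  omega

def aGens : List (List ℕ) := [[0, 3, 0, 3, 0, 3], [3, 3, 1, 3, 3, 0, 0]]

def aChain : List (ℕ × List (List ℕ)) :=
  [(2, [[], [1, 1, 0, 1], [0, 1, 1, 0, 1], [1, 0, 3, 3], [1, 0, 1, 1], [1, 1, 0, 3, 3], [0, 1, 1], [1, 1], [3, 3], [0, 1], [0, 3, 3], [3, 0, 1], [0, 1, 0, 1], [3], [1, 1, 0, 1, 1], [0, 3, 0, 1], [0, 3], [3, 0, 1, 1], [1], [3, 0, 3, 0, 1], [1, 0, 1]]),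
    (3, [[], [0], [0, 1, 1, 0, 1, 0, 3, 0, 1], [3, 3, 0, 1, 1, 0, 3, 0, 1, 0, 1, 0], [3, 0, 3, 0, 3, 3, 0, 1], [0, 1, 0, 1, 1, 0, 3], [1, 0, 1, 1, 0, 3], [0, 1, 0, 1, 0, 3], [1, 0, 3, 3, 0, 3, 0], [1, 0, 1, 0, 3], [1, 0, 3, 3, 0, 3], [1, 1, 0, 1, 0, 3, 0, 1, 0], [1, 0, 3, 0, 3, 0], [1, 1, 0, 1, 0, 3, 0, 1], [1, 0, 1, 1, 0, 3, 0], [0, 1, 0, 3, 0, 3, 0], [1, 0, 3, 0, 3], [0, 1, 0, 3, 3, 0, 3, 0], [1, 0, 1, 0, 3, 0], [0, 1, 1, 0, 1, 0, 3, 0, 1, 0]]),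
    (4, [[], [1, 1, 0, 1, 0, 3, 0, 1, 1, 0, 3, 3, 0, 3], [3, 0, 1, 0, 3, 3, 0, 3, 0, 3, 0, 1, 0, 1], [0, 3, 0, 3, 3, 0, 1, 0, 1, 0, 3, 3], [3, 0, 1, 0, 1, 0, 3, 0, 3, 0, 1], [3, 3, 0, 1, 1, 0, 1, 0, 3, 3, 0, 1, 0], [3, 3, 0, 3, 3, 0, 1, 0, 3, 3, 0], [3, 3, 0, 1, 0, 1, 1, 0, 1, 0, 3, 3, 0], [0, 3, 3, 0, 3, 0, 1, 1, 0, 3, 0, 1, 1], [1, 0, 1, 1, 0, 3, 3, 0, 1, 0, 3, 0, 3, 3], [1, 0, 1, 1, 0, 3, 0, 1, 0, 1, 1, 0, 3, 0], [0, 1, 0, 1, 0, 3, 0, 3, 0, 1, 1, 0, 1, 0, 1, 0], [3, 0, 3, 0, 1, 0, 1, 0, 3, 3, 0, 3, 0, 3, 0, 1], [1, 0, 1, 0, 3, 0, 1, 0, 3, 0, 3], [1, 1, 0, 1, 1, 0, 1, 0, 3, 3, 0, 3, 0, 1], [3, 3, 0, 1, 0, 3, 0, 1, 1]]),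
    (5, [[], [3, 3, 0, 3, 0, 1, 0, 1, 1, 0], [0, 3, 3, 0, 3, 0, 1, 0, 1, 1]])]

def inA21 (w : List ℕ) : Bool := (evalPt w 23 == 23) && (evalPt w 0 == 0) && (evalPt w 1 == 1)

theorem wordPerm_mem_A21 {w : List ℕ} (h : inA21 w = true) : wordPerm w ∈ A21 := by
  unfold inA21 at h
  rw [Bool.and_eq_true, Bool.and_eq_true, beq_iff_eq, beq_iff_eq, beq_iff_eq] at h
  rw [mem_fixSub]
  refine ⟨wordPerm_mem_M24 w, ?_⟩
  intro k hk
  simp only [List.mem_cons, List.not_mem_nil, or_false] at hk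
  rcases hk with rfl | rfl | rfl
  · exact wordPerm_fix_of_evalPt (by norm_num) h.2
  · exact wordPerm_fix_of_evalPt (by norm_num) h.1.2
  · exact wordPerm_fix_of_evalPt (by norm_num) h.1.1

theorem aGens_mem : ∀ w ∈ aGens, wordPerm w ∈ A21 := by
  intro w hw
  apply wordPerm_mem_A21
  have : ∀ w ∈ aGens, inA21 w = true := by decide +kernel
  exact this w hw

theorem aChain_ok : chainCheck [] (metaChain aGens aChain) = true := by decide +kernel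

theorem wordsClosure_aGens : wordsClosure aGens = A21 := by
  apply wordsClosure_eq_of_chain A21 aGens aChain aGens_mem aChain_ok
  refine le_trans card_A21_le ?_
  decide +kernel

theorem card_A21 : Nat.card A21 = 20160 := by
  apply le_antisymm card_A21_le
  have h := card_ge_of_chainCheck A21 (metaChain aGens aChain) [] (by
    intro c hc w hw
    unfold metaChain at hc
    rw [List.mem_map] at hc
    obtain ⟨c0, _, rfl⟩ := hc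
    rw [List.mem_map] at hw
    obtain ⟨m, _, rfl⟩ := hw
    rw [← wordsClosure_aGens]
    exact wordPerm_metaFlat_mem aGens m) aChain_ok
  rw [fixSub_nil] at h
  refine le_trans ?_ h
  decide +kernel

end Cfsg.Agent.Lib.H5.M21
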