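import Mathlib
import Cfsg.Agent.Lib.H5.M21.Std
import Cfsg.Agent.Lib.H3.F4a

/-!
# The standard `M₂₁` acts on the projective plane over `F₄`
-/

set_option autoImplicit false
set_option linter.style.haveILetI false

open scoped Pointwise
open Cfsg

namespace Cfsg.Agent.Lib.H5.M21

open Cfsg.Agent.Lib.H28 Cfsg.Agent.Lib.H3.F4

/-- the homogeneous coordinates of the `21` points `2, …, 22` -/
def betaTab : List (F4 × F4 × F4) :=
  [(F4.z, F4.z, F4.z), (F4.z, F4.z, F4.z), (F4.o, F4.z, F4.z), (F4.z, F4.o, F4.z), (F4.z, F4.z, F4.o), (F4.o, F4.w, F4.z), (F4.o, F4.o, F4.o), (F4.o, F4.w, F4.w), (F4.o, F4.w, F4.o), (F4.o, F4.o, F4.w), (F4.o, F4.w2, F4.o), (F4.z, F4.o, F4.w2), (F4.o, F4.o, F4.w2), (F4.o, F4.z, F4.o), (F4.o, F4.w2, F4.z), (F4.o, F4.w, F4.w2), (F4.o, F4.z, F4.w), (F4.o, F4.o, F4.z), (F4.o, F4.w2, F4.w), (F4.z, F4.o, F4.o), (F4.z, F4.o, F4.w), (F4.o, F4.w2, F4.w2), (F4.o, F4.z, F4.w2), (F4.z, F4.z, F4.z)]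

def pList : List ℕ := [2, 3, 4, 5, 6, 7, 8, 9, 10, 11, 12, 13, 14, 15, 16, 17, 18, 19, 20, 21, 22]

def vecOf (t : F4 × F4 × F4) : Fin 3 → F4 := ![t.1, t.2.1, t.2.2]

def beta (p : GolayPt) : Fin 3 → F4 := vecOf (betaTab.getD (gIdx p) (0, 0, 0))

/-- the points of the plane -/
def InP (x : GolayPt) : Prop := x ≠ gPt 23 ∧ x ≠ gPt 0 ∧ x ≠ gPt 1

theorem gIdx_of_InP {x : GolayPt} (hx : InP x) : gIdx x ∈ pList := by
  have h := gIdx_lt x
  have h23 : gIdx x ≠ 23 := fun hc => hx.1 (by rw [← hc, gPt_gIdx])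
  have h0 : gIdx x ≠ 0 := fun hc => hx.2.1 (by rw [← hc, gPt_gIdx])
  have h1 : gIdx x ≠ 1 := fun hc => hx.2.2 (by rw [← hc, gPt_gIdx])
  unfold pList
  simp only [List.mem_cons, List.not_mem_nil, or_false]
  omega

theorem gPt_ne' {i j : ℕ} (hi : i < 24) (hj : j < 24) (h : i ≠ j) : gPt i ≠ gPt j := by
  intro he
  have := congrArg gIdx he
  rw [gIdx_gPt hi, gIdx_gPt hj] at this
  exact h this

theorem inP_gPt {k : ℕ} (hk : k ∈ pList) : InP (gPt k) := by
  unfold pList at hk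
  simp only [List.mem_cons, List.not_mem_nil, or_false] at hk
  refine ⟨gPt_ne' (by omega) (by norm_num) (by omega), gPt_ne' (by omega) (by norm_num) (by omega),
    gPt_ne' (by omega) (by norm_num) (by omega)⟩

theorem A21_inP {g : Equiv.Perm GolayPt} (hg : g ∈ A21) {x : GolayPt} (hx : InP x) : InP (g x) := by
  rw [mem_fixSub] at hg
  refine ⟨?_, ?_, ?_⟩
  · intro hc
    rw [← hg.2 23 (by simp)] at hc
    exact hx.1 (g.injective hc)
  · intro hc
    rw [← hg.2 0 (by simp)] at hc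
    exact hx.2.1 (g.injective hc)
  · intro hc
    rw [← hg.2 1 (by simp)] at hc
    exact hx.2.2 (g.injective hc)

/-- projective linearity of a permutation -/
def ProjLin (h : Equiv.Perm GolayPt) (A : Matrix (Fin 3) (Fin 3) F4) : Prop :=
  ∀ x, InP x → ∃ c : F4, c ≠ 0 ∧ beta (h x) = c • A.mulVec (beta x)

def matOfList (l : List (List F4)) : Matrix (Fin 3) (Fin 3) F4 :=
  fun i j => (l.getD i.val []).getD j.val 0

def mulVecT (l : List (List F4)) (t : F4 × F4 × F4) : F4 × F4 × F4 :=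
  ((l.getD 0 []).getD 0 0 * t.1 + (l.getD 0 []).getD 1 0 * t.2.1 + (l.getD 0 []).getD 2 0 * t.2.2,
   (l.getD 1 []).getD 0 0 * t.1 + (l.getD 1 []).getD 1 0 * t.2.1 + (l.getD 1 []).getD 2 0 * t.2.2,
   (l.getD 2 []).getD 0 0 * t.1 + (l.getD 2 []).getD 1 0 * t.2.1 + (l.getD 2 []).getD 2 0 * t.2.2)

def smulT (c : F4) (t : F4 × F4 × F4) : F4 × F4 × F4 := (c * t.1, c * t.2.1, c * t.2.2)

theorem vecOf_smulT_mulVecT (c : F4) (l : List (List F4)) (t : F4 × F4 × F4) :
    vecOf (smulT c (mulVecT l t)) = c • (matOfList l).mulVec (vecOf t) := by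
  ext i
  fin_cases i <;>
    simp [vecOf, smulT, mulVecT, matOfList, Matrix.mulVec, dotProduct, Fin.sum_univ_three]

def projCheck (w : List ℕ) (l : List (List F4)) : Bool :=
  pList.all (fun k => [F4.o, F4.w, F4.w2].any (fun c =>
    betaTab.getD (evalPt w k) (0, 0, 0) == smulT c (mulVecT l (betaTab.getD k (0, 0, 0)))))

theorem projLin_of_projCheck {w : List ℕ} {l : List (List F4)} (h : projCheck w l = true) :
    ProjLin (wordPerm w) (matOfList l) := by
  intro x hx
  have h1 := List.all_eq_true.mp h (gIdx x) (gIdx_of_InP hx)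
  rw [List.any_eq_true] at h1
  obtain ⟨c, hc, hcc⟩ := h1
  rw [beq_iff_eq] at hcc
  refine ⟨c, ?_, ?_⟩
  · simp only [List.mem_cons, List.not_mem_nil, or_false] at hc
    rcases hc with rfl | rfl | rfl <;> decide
  · unfold beta
    rw [gIdx_wordPerm, hcc, vecOf_smulT_mulVecT]

theorem projLin_one : ProjLin 1 1 := by
  intro x _
  refine ⟨1, one_ne_zero, ?_⟩
  rw [Equiv.Perm.one_apply, Matrix.one_mulVec, one_smul]

theorem projLin_mul {h h' : Equiv.Perm GolayPt} {A A' : Matrix (Fin 3) (Fin 3) F4}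
    (hh : ProjLin h A) (hh' : ProjLin h' A') (hR : ∀ x, InP x → InP (h' x)) :
    ProjLin (h * h') (A * A') := by
  intro x hx
  obtain ⟨c', hc', e'⟩ := hh' x hx
  obtain ⟨c, hc, e⟩ := hh _ (hR x hx)
  refine ⟨c * c', mul_ne_zero hc hc', ?_⟩
  rw [Equiv.Perm.mul_apply, e, e', Matrix.mulVec_smul, smul_smul, Matrix.mulVec_mulVec]

def aMats : List (List (List F4)) :=
  [[[F4.o, F4.z, F4.z], [F4.z, F4.z, F4.o], [F4.z, F4.o, F4.z]],
   [[F4.z, F4.o, F4.z], [F4.w, F4.w2, F4.o], [F4.w2, F4.z, F4.o]]]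

theorem aGens_proj : projCheck (aGens.getD 0 []) (aMats.getD 0 []) = true ∧
    projCheck (aGens.getD 1 []) (aMats.getD 1 []) = true := by decide +kernel

theorem aMats_det : (matOfList (aMats.getD 0 [])).det = 1 ∧ (matOfList (aMats.getD 1 [])).det = 1 := by
  constructor
  · rw [Matrix.det_fin_three]
    decide
  · rw [Matrix.det_fin_three]
    decide

/-- every element of `M₂₁` acts projectively linearly, by a matrix of determinant `1` -/
theorem exists_projLin {h : Equiv.Perm GolayPt} (hh : h ∈ A21) :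
    ∃ A : Matrix (Fin 3) (Fin 3) F4, A.det = 1 ∧ ProjLin h A := by
  have key : ∀ g ∈ wordsClosure aGens, g ∈ A21 ∧
      ∃ A : Matrix (Fin 3) (Fin 3) F4, A.det = 1 ∧ ProjLin g A := by
    intro g hg
    unfold wordsClosure at hg
    induction hg using Subgroup.closure_induction with
    | mem g hg =>
      obtain ⟨w, hw, rfl⟩ := hg
      refine ⟨aGens_mem w hw, ?_⟩
      unfold aGens at hw
      simp only [List.mem_cons, List.not_mem_nil, or_false] at hw
      rcases hw with rfl | rfl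
      · exact ⟨_, aMats_det.1, projLin_of_projCheck aGens_proj.1⟩
      · exact ⟨_, aMats_det.2, projLin_of_projCheck aGens_proj.2⟩
    | one => exact ⟨A21.one_mem, 1, Matrix.det_one, projLin_one⟩
    | mul a b _ _ iha ihb =>
      obtain ⟨haZ, A, hAd, hA⟩ := iha
      obtain ⟨hbZ, B, hBd, hB⟩ := ihb
      exact ⟨A21.mul_mem haZ hbZ, A * B, by rw [Matrix.det_mul, hAd, hBd, one_mul],
        projLin_mul hA hB (fun r hr => A21_inP hbZ hr)⟩
    | inv a _ iha =>
      obtain ⟨haZ, A, hAd, hA⟩ := iha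
      refine ⟨A21.inv_mem haZ, ?_⟩
      have hpow : ∀ n : ℕ, ProjLin (a ^ n) (A ^ n) := by
        intro n
        induction n with
        | zero => rw [pow_zero, pow_zero]; exact projLin_one
        | succ n ih =>
          rw [pow_succ, pow_succ]
          exact projLin_mul ih hA (fun r hr => A21_inP haZ hr)
      have hinv : a⁻¹ = a ^ (orderOf a - 1) := by
        apply inv_eq_of_mul_eq_one_right
        rw [← pow_succ', Nat.sub_add_cancel (orderOf_pos a), pow_orderOf_eq_one]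
      rw [hinv]
      exact ⟨_, by rw [Matrix.det_pow, hAd, one_pow], hpow _⟩
  rw [← wordsClosure_aGens] at hh
  exact (key h hh).2

end Cfsg.Agent.Lib.H5.M21
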