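import Mathlib
import Cfsg.Agent.Lib.H5.M21.Proj
import Cfsg.Agent.Lib.H2.PSLCard
import Cfsg.Agent.Lib.H12.CardSL

/-!
# The standard `M₂₁` is `PSL₃(F₄)`
-/

set_option autoImplicit false
set_option linter.style.haveILetI false

open scoped Pointwise
open Cfsg

namespace Cfsg.Agent.Lib.H5.M21

open Cfsg.Agent.Lib.H28 Cfsg.Agent.Lib.H3.F4

/-- a matrix fixing the four frame points projectively is scalar -/
theorem scalar_of_frame {K : Type*} [Field K] {B : Matrix (Fin 3) (Fin 3) K} {l1 l2 l3 l4 : K}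
    (h1 : B.mulVec ![1, 0, 0] = l1 • ![1, 0, 0]) (h2 : B.mulVec ![0, 1, 0] = l2 • ![0, 1, 0])
    (h3 : B.mulVec ![0, 0, 1] = l3 • ![0, 0, 1]) (h4 : B.mulVec ![1, 1, 1] = l4 • ![1, 1, 1]) :
    B = l4 • (1 : Matrix (Fin 3) (Fin 3) K) := by
  have e1 : ∀ i, B i 0 = (l1 • ![(1 : K), 0, 0]) i := fun i => by
    have := congrFun h1 i
    simpa [Matrix.mulVec, dotProduct, Fin.sum_univ_three] using this
  have e2 : ∀ i, B i 1 = (l2 • ![(0 : K), 1, 0]) i := fun i => by
    have := congrFun h2 i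
    simpa [Matrix.mulVec, dotProduct, Fin.sum_univ_three] using this
  have e3 : ∀ i, B i 2 = (l3 • ![(0 : K), 0, 1]) i := fun i => by
    have := congrFun h3 i
    simpa [Matrix.mulVec, dotProduct, Fin.sum_univ_three] using this
  have e4 : ∀ i, B i 0 + B i 1 + B i 2 = (l4 • ![(1 : K), 1, 1]) i := fun i => by
    have := congrFun h4 i
    simpa [Matrix.mulVec, dotProduct, Fin.sum_univ_three] using this
  have a00 := e1 0
  have a10 := e1 1
  have a20 := e1 2
  have a01 := e2 0
  have a11 := e2 1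
  have a21 := e2 2
  have a02 := e3 0
  have a12 := e3 1
  have a22 := e3 2
  have r0 := e4 0
  have r1 := e4 1
  have r2 := e4 2
  simp at a00 a10 a20 a01 a11 a21 a02 a12 a22 r0 r1 r2
  rw [a00, a01, a02] at r0
  rw [a10, a11, a12] at r1
  rw [a20, a21, a22] at r2
  simp at r0 r1 r2
  ext i j
  fin_cases i <;> fin_cases j <;> simp [a00, a10, a20, a01, a11, a21, a02, a12, a22, r0, r1, r2]

theorem beta_two : beta (gPt 2) = ![1, 0, 0] := by
  unfold beta
  rw [gIdx_gPt (by norm_num)]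
  rfl

theorem beta_three : beta (gPt 3) = ![0, 1, 0] := by
  unfold beta
  rw [gIdx_gPt (by norm_num)]
  rfl

theorem beta_four : beta (gPt 4) = ![0, 0, 1] := by
  unfold beta
  rw [gIdx_gPt (by norm_num)]
  rfl

theorem beta_six : beta (gPt 6) = ![1, 1, 1] := by
  unfold beta
  rw [gIdx_gPt (by norm_num)]
  rfl

/-- the matrix of a projectively linear permutation is unique up to a scalar -/
theorem projLin_unique {h : Equiv.Perm GolayPt} {A A' : Matrix (Fin 3) (Fin 3) F4}
    (hA : ProjLin h A) (hA' : ProjLin h A') (hd : A.det = 1) : ∃ μ : F4, A' = μ • A := by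
  have hu : IsUnit A.det := by rw [hd]; exact isUnit_one
  have key : ∀ x, InP x → ∃ l : F4, (A⁻¹ * A').mulVec (beta x) = l • beta x := by
    intro x hx
    obtain ⟨c, hc, e⟩ := hA x hx
    obtain ⟨c', hc', e'⟩ := hA' x hx
    refine ⟨c'⁻¹ * c, ?_⟩
    have h1 : A'.mulVec (beta x) = (c'⁻¹ * c) • A.mulVec (beta x) := by
      rw [← smul_smul, ← e, e', smul_smul, inv_mul_cancel₀ hc', one_smul]
    rw [← Matrix.mulVec_mulVec, h1, Matrix.mulVec_smul, Matrix.mulVec_mulVec,
      Matrix.nonsing_inv_mul A hu, Matrix.one_mulVec]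
  obtain ⟨l1, h1⟩ := key _ (inP_gPt (k := 2) (by decide))
  obtain ⟨l2, h2⟩ := key _ (inP_gPt (k := 3) (by decide))
  obtain ⟨l3, h3⟩ := key _ (inP_gPt (k := 4) (by decide))
  obtain ⟨l4, h4⟩ := key _ (inP_gPt (k := 6) (by decide))
  rw [beta_two] at h1
  rw [beta_three] at h2
  rw [beta_four] at h3
  rw [beta_six] at h4
  have hB := scalar_of_frame h1 h2 h3 h4
  refine ⟨l4, ?_⟩
  calc A' = A * (A⁻¹ * A') := by
        rw [← Matrix.mul_assoc, Matrix.mul_nonsing_inv A hu, Matrix.one_mul]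
    _ = l4 • A := by rw [hB, Matrix.mul_smul, Matrix.mul_one]

local notation "SL3" => Matrix.SpecialLinearGroup (Fin 3) F4
local notation "PSL3" => Matrix.ProjectiveSpecialLinearGroup (Fin 3) F4

theorem exists_SL {h : Equiv.Perm GolayPt} (hh : h ∈ A21) :
    ∃ S : SL3, ProjLin h (S : Matrix (Fin 3) (Fin 3) F4) := by
  obtain ⟨A, hd, hA⟩ := exists_projLin hh
  exact ⟨⟨A, hd⟩, hA⟩

noncomputable def slOf (h : A21) : SL3 := (exists_SL h.2).choose

theorem slOf_spec (h : A21) :
    ProjLin (h : Equiv.Perm GolayPt) (slOf h : Matrix (Fin 3) (Fin 3) F4) :=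
  (exists_SL h.2).choose_spec

theorem mk_eq_of_projLin {h : Equiv.Perm GolayPt} {S T : SL3}
    (hS : ProjLin h (S : Matrix (Fin 3) (Fin 3) F4))
    (hT : ProjLin h (T : Matrix (Fin 3) (Fin 3) F4)) :
    (QuotientGroup.mk S : PSL3) = QuotientGroup.mk T := by
  obtain ⟨μ, hμ⟩ := projLin_unique hS hT S.2
  rw [QuotientGroup.eq, Subgroup.mem_center_iff]
  have hC : ((S⁻¹ * T : SL3) : Matrix (Fin 3) (Fin 3) F4) = μ • 1 := by
    rw [Matrix.SpecialLinearGroup.coe_mul, hμ, Matrix.mul_smul, ← Matrix.SpecialLinearGroup.coe_mul,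
      inv_mul_cancel, Matrix.SpecialLinearGroup.coe_one]
  obtain ⟨C, hCdef⟩ : ∃ C : SL3, C = S⁻¹ * T := ⟨_, rfl⟩
  rw [← hCdef] at hC ⊢
  intro D
  apply Subtype.ext
  rw [Matrix.SpecialLinearGroup.coe_mul, Matrix.SpecialLinearGroup.coe_mul, hC, Matrix.mul_smul,
    Matrix.smul_mul, Matrix.mul_one, Matrix.one_mul]

/-- the homomorphism to `PSL₃(F₄)` -/
noncomputable def toPSL : A21 →* PSL3 where
  toFun h := QuotientGroup.mk (slOf h)
  map_one' := by
    have : (QuotientGroup.mk (slOf 1) : PSL3) = QuotientGroup.mk (1 : SL3) :=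
      mk_eq_of_projLin (h := 1) (slOf_spec 1) (by
        rw [Matrix.SpecialLinearGroup.coe_one]; exact projLin_one)
    rw [this]
    rfl
  map_mul' a b := by
    have : (QuotientGroup.mk (slOf (a * b)) : PSL3) = QuotientGroup.mk (slOf a * slOf b) :=
      mk_eq_of_projLin (h := (a : Equiv.Perm GolayPt) * (b : Equiv.Perm GolayPt))
        (slOf_spec (a * b)) (by
          rw [Matrix.SpecialLinearGroup.coe_mul]
          exact projLin_mul (slOf_spec a) (slOf_spec b) (fun x hx => A21_inP b.2 hx))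
    rw [this]
    rfl

theorem betaTab_proj_inj : ∀ i ∈ pList, ∀ j ∈ pList, ∀ c ∈ [F4.o, F4.w, F4.w2],
    betaTab.getD i (0, 0, 0) = smulT c (betaTab.getD j (0, 0, 0)) → i = j := by decide +kernel

theorem vecOf_injective : Function.Injective vecOf := by
  intro s t h
  have h0 := congrFun h 0
  have h1 := congrFun h 1
  have h2 := congrFun h 2
  simp only [vecOf, Matrix.cons_val_zero, Matrix.cons_val_one, Matrix.cons_val_two] at h0 h1 h2
  exact Prod.ext h0 (Prod.ext h1 h2)

theorem vecOf_smulT (c : F4) (t : F4 × F4 × F4) : vecOf (smulT c t) = c • vecOf t := by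
  ext i
  fin_cases i <;> simp [vecOf, smulT]

theorem beta_proj_inj {x y : GolayPt} (hx : InP x) (hy : InP y) {c : F4} (hc : c ≠ 0)
    (h : beta x = c • beta y) : x = y := by
  apply gIdx_injective
  have hc' : c ∈ [F4.o, F4.w, F4.w2] := by
    cases c
    · exact absurd rfl hc
    · simp
    · simp
    · simp
  apply betaTab_proj_inj _ (gIdx_of_InP hx) _ (gIdx_of_InP hy) c hc'
  unfold beta at h
  rw [← vecOf_smulT] at h
  exact vecOf_injective h

theorem toPSL_injective : Function.Injective toPSL := by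
  rw [injective_iff_map_eq_one]
  intro h hh
  have h1 : (QuotientGroup.mk (slOf h) : PSL3) = QuotientGroup.mk (1 : SL3) := hh
  rw [QuotientGroup.eq, mul_one, inv_mem_iff, Matrix.SpecialLinearGroup.mem_center_iff] at h1
  obtain ⟨r, hr, hrs⟩ := h1
  have hr0 : r ≠ 0 := by
    rintro rfl
    simp at hr
  have hlin := slOf_spec h
  rw [← hrs] at hlin
  have hfix : ∀ x, InP x → (h : Equiv.Perm GolayPt) x = x := by
    intro x hx
    obtain ⟨c, hc, e⟩ := hlin x hx
    apply beta_proj_inj (A21_inP h.2 hx) hx (mul_ne_zero hc hr0)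
    rw [e, ← smul_smul]
    congr 1
    ext i
    simp [Matrix.mulVec, dotProduct, Matrix.scalar_apply, Matrix.diagonal_apply]
  apply Subtype.ext
  apply Equiv.ext
  intro x
  have hmem := mem_fixSub.mp h.2
  by_cases h23 : x = gPt 23
  · rw [h23]; exact hmem.2 23 (by simp)
  by_cases h0 : x = gPt 0
  · rw [h0]; exact hmem.2 0 (by simp)
  by_cases h1 : x = gPt 1
  · rw [h1]; exact hmem.2 1 (by simp)
  exact hfix x ⟨h23, h0, h1⟩

theorem card_PSL34 : Nat.card PSL3 = 20160 := by
  have h1 := Cfsg.Agent.Lib.H2.card_PSL_mul (F := F4) 3 (by norm_num)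
  have h2 := Cfsg.Agent.Lib.H12.card_SL_mul (F := F4) 3 (by norm_num)
  rw [F4.card_eq] at h1 h2
  rw [Fin.prod_univ_three] at h2
  norm_num at h1 h2
  rw [Nat.card_eq_fintype_card]
  omega

/-- **the standard `M₂₁` is `PSL₃(F₄)`** -/
theorem nonempty_A21_mulEquiv : Nonempty (A21 ≃* PSL3) := by
  have hbij : Function.Bijective toPSL := by
    haveI : Finite A21 := inferInstance
    rw [Nat.bijective_iff_injective_and_card]
    refine ⟨toPSL_injective, ?_⟩
    rw [card_A21, card_PSL34]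
  exact ⟨MulEquiv.ofBijective _ hbij⟩

end Cfsg.Agent.Lib.H5.M21
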