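import Mathlib
import Cfsg.Agent.Lib.H5.M21.Iso
import Cfsg.Agent.Lib.H2.Spec1
import Cfsg.Agent.Lib.H28.M12Simple

/-!
# Three-point stabilizers of `M₂₄` are `PSL₃(4)`
-/

set_option autoImplicit false
set_option linter.style.haveILetI false

open scoped Pointwise
open Cfsg

namespace Cfsg.Agent.Lib.H5.M21

open Cfsg.Agent.Lib.H28 Cfsg.Agent.Lib.H3.F4

theorem map_center_equiv' {G H : Type*} [Group G] [Group H] (e : G ≃* H) :
    (Subgroup.center G).map e.toMonoidHom = Subgroup.center H := by
  ext y
  constructor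
  · rintro ⟨x, hx, rfl⟩
    have hx : x ∈ Subgroup.center G := hx
    rw [Subgroup.mem_center_iff] at hx ⊢
    intro h
    obtain ⟨g, rfl⟩ := e.surjective h
    show e g * e x = e x * e g
    rw [← map_mul, ← map_mul, hx g]
  · intro hy
    refine ⟨e.symm y, ?_, by simp⟩
    show e.symm y ∈ Subgroup.center G
    rw [Subgroup.mem_center_iff] at hy ⊢
    intro g
    apply e.injective
    rw [map_mul, map_mul, e.apply_symm_apply]
    exact hy (e g)

/-- a ring isomorphism induces an isomorphism of projective special linear groups -/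
noncomputable def pslEquiv {n : Type*} [DecidableEq n] [Fintype n] {R S : Type*} [CommRing R]
    [CommRing S] (e : R ≃+* S) :
    Matrix.ProjectiveSpecialLinearGroup n R ≃* Matrix.ProjectiveSpecialLinearGroup n S :=
  QuotientGroup.congr _ _ (Cfsg.Agent.Lib.H2.Spec.slEquiv e) (map_center_equiv' _)

/-- **three-point stabilizers of `M₂₄` are `PSL₃(4)`** -/
theorem nonempty_mulEquiv (p q r : GolayPt) (hpq : p ≠ q) (hpr : p ≠ r) (hqr : q ≠ r)
    (F : Type) [Field F] [Fintype F] (hF : Fintype.card F = 4) :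
    Nonempty (↥(MulAction.stabilizer M24 p ⊓ MulAction.stabilizer M24 q ⊓
      MulAction.stabilizer M24 r) ≃* Matrix.ProjectiveSpecialLinearGroup (Fin 3) F) := by
  obtain ⟨g, hg, hmap⟩ := exists_M24_map (n := 3) (by norm_num) ![gPt 23, gPt 0, gPt 1] ![p, q, r]
    (by
      intro i j hij
      fin_cases i <;> fin_cases j <;> first | rfl | (exfalso; revert hij; simp; exact gPt_ne' (by norm_num) (by norm_num) (by norm_num)))
    (by
      intro i j hij
      fin_cases i <;> fin_cases j <;> first | rfl | (exfalso; revert hij; simp; first | exact hpq | exact hpr | exact hqr | exact hpq.symm | exact hpr.symm | exact hqr.symm))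
  have h23 : g (gPt 23) = p := hmap 0
  have h0 : g (gPt 0) = q := hmap 1
  have h1 : g (gPt 1) = r := hmap 2
  have e1 := subgroupConjEquiv hg (MulAction.stabilizer M24 p ⊓ MulAction.stabilizer M24 q ⊓
      MulAction.stabilizer M24 r) A21 (fun k hk => (mem_fixSub.mp hk).1) (by
    intro x
    rw [Subgroup.mem_inf, Subgroup.mem_inf, MulAction.mem_stabilizer_iff,
      MulAction.mem_stabilizer_iff, MulAction.mem_stabilizer_iff, mem_fixSub]
    constructor
    · rintro ⟨⟨hxp, hxq⟩, hxr⟩
      have hxp' : (x : Equiv.Perm GolayPt) p = p := hxp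
      have hxq' : (x : Equiv.Perm GolayPt) q = q := hxq
      have hxr' : (x : Equiv.Perm GolayPt) r = r := hxr
      refine ⟨M24.mul_mem (M24.mul_mem (M24.inv_mem hg) x.2) hg, ?_⟩
      intro k hk
      simp only [List.mem_cons, List.not_mem_nil, or_false] at hk
      rcases hk with rfl | rfl | rfl
      · rw [Equiv.Perm.mul_apply, Equiv.Perm.mul_apply, h1, hxr', ← h1, Equiv.Perm.inv_def,
          Equiv.symm_apply_apply]
      · rw [Equiv.Perm.mul_apply, Equiv.Perm.mul_apply, h0, hxq', ← h0, Equiv.Perm.inv_def,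
          Equiv.symm_apply_apply]
      · rw [Equiv.Perm.mul_apply, Equiv.Perm.mul_apply, h23, hxp', ← h23, Equiv.Perm.inv_def,
          Equiv.symm_apply_apply]
    · rintro ⟨-, hfix⟩
      have k1 := hfix 1 (by simp)
      have k0 := hfix 0 (by simp)
      have k23 := hfix 23 (by simp)
      rw [Equiv.Perm.mul_apply, Equiv.Perm.mul_apply, Equiv.Perm.inv_def, Equiv.symm_apply_eq]
        at k1 k0 k23
      rw [h1] at k1
      rw [h0] at k0
      rw [h23] at k23
      exact ⟨⟨k23, k0⟩, k1⟩)
  obtain ⟨e2⟩ := nonempty_A21_mulEquiv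
  have e : F4 ≃+* F := FiniteField.ringEquivOfCardEq (by rw [hF, F4.card_eq])
  exact ⟨(e1.trans e2).trans (pslEquiv e)⟩

end Cfsg.Agent.Lib.H5.M21
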